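import Cfsg.Agent.CharDeep.Deg.Basic
import Cfsg.Agent.CharDeep.Deg.DegreeP
import Cfsg.Agent.CharDeep.Deg.TwoDeg
import Cfsg.Agent.CharDeep.Ext.Wrap
import Cfsg.Agent.Lib.CharCore.ProjectiveChar
import Cfsg.Agent.Lib.CharClifford.Clifford

/-!
# One irreducible character of degree divisible by `p`, normal `p`-complement: character side
-/

namespace Cfsg.Agent.CharDeep.OnePDeg

universe u

variable {G : Type u} [Group G] [Fintype G] {p : ℕ} [Fact p.Prime] (N : Subgroup G) [hN : N.Normal]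
  [Fintype N] (hcop : (Nat.card N).Coprime p) {k : ℕ} (hidx : N.index = p ^ k)
  (hone : ∀ χ ψ : Cfsg.IrrCharacter G, p ∣ Cfsg.charDegree (χ : G → ℂ) →
    p ∣ Cfsg.charDegree (ψ : G → ℂ) → χ = ψ)

include hidx in
/-- Characters of degree prime to `p` restrict irreducibly. -/
theorem restrict_irr {χ : Cfsg.IrrCharacter G} (hχ : ¬ p ∣ Cfsg.charDegree (χ : G → ℂ)) :
    Cfsg.IsIrrCharacter N (fun x : N => (χ : G → ℂ) x) := by
  have hc := CharCore.isCharacter_restrict (CharCore.irr_isCharacter χ) N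
  obtain ⟨φ, hφ⟩ := CharClifford.exists_constituent hc (CharCore.irr_apply_one_ne_zero χ)
  obtain ⟨f, hf, hfdvd⟩ := CharCore.exists_degree_eq_mul N φ.2 χ.2 hφ
  rw [Deg.apply_one χ, Deg.apply_one φ, ← Nat.cast_mul, Nat.cast_inj] at hf
  have hf1 : f = 1 := by
    obtain ⟨i, -, rfl⟩ := (Nat.dvd_prime_pow Fact.out).mp (hidx ▸ hfdvd)
    rcases Nat.eq_zero_or_pos i with rfl | hi
    · rfl
    · exact absurd ((dvd_pow_self p hi.ne').trans (Dvd.intro _ hf.symm)) hχ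
  have h1 : (fun x : N => (χ : G → ℂ) x) 1 = ((Cfsg.charDegree (χ : G → ℂ) : ℕ) : ℂ) :=
    Deg.apply_one χ
  rw [(Deg.eq_or_degree_lt hc φ hφ (Deg.apply_one φ) h1).resolve_right
    (by rw [hf, hf1, one_mul]; exact lt_irrefl _)]
  exact φ.2

include hidx hone in
/-- The quotient by `N` is abelian. -/
theorem quotient_commute (hne : N ≠ ⊥) (a b : G ⧸ N) : a * b = b * a := by
  classical
  refine Deg.commute_of_degree_one (fun β₀ => ?_) a b
  by_contra hβ₀
  obtain ⟨β, hβd, hβv⟩ := Deg.exists_inflate N β₀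
  rw [← hβd] at hβ₀
  have hβp : p ∣ Cfsg.charDegree (β : G → ℂ) := by
    have h1 : Cfsg.charDegree (β : G → ℂ) ∣ p ^ k := by
      rw [hβd, ← hidx, Subgroup.index_eq_card, ← Subgroup.index_bot (G := G ⧸ N)]
      exact Deg.degree_dvd_index β₀ ⊥ (by simp)
    obtain ⟨i, -, hi⟩ := (Nat.dvd_prime_pow Fact.out).mp h1
    have hi0 : i ≠ 0 := fun h0 => hβ₀ (by rw [hi, h0, pow_zero])
    exact hi ▸ dvd_pow_self p hi0
  have hβN : ∀ (x : N) (g : G), (β : G → ℂ) ((x : G) * g) = (β : G → ℂ) g := fun x g => by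
    rw [hβv, hβv, map_mul, QuotientGroup.mk'_apply, (QuotientGroup.eq_one_iff (x : G)).mpr x.2,
      one_mul]
  -- a character of `G` nontrivial on `N`
  obtain ⟨θ, hθ⟩ : ∃ θ : Cfsg.IrrCharacter N, (θ : N → ℂ) ≠ fun _ => 1 := by
    by_contra hno
    push Not at hno
    haveI : Nontrivial N := (Subgroup.nontrivial_iff_ne_bot N).mpr hne
    obtain ⟨x, hx⟩ := exists_ne (1 : N)
    exact hx (Ext.eq_one_of_forall_irr fun χ => by rw [hno χ])
  obtain ⟨χ, hχ⟩ := CharCore.exists_over N θ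
  have hres : ∀ ψ : Cfsg.IrrCharacter G,
      (∀ x : N, (ψ : G → ℂ) x = (ψ : G → ℂ) 1) →
      Cfsg.classInner (fun x : N => (ψ : G → ℂ) x) (θ : N → ℂ) = 0 := by
    intro ψ hψ
    let one : Cfsg.IrrCharacter N := ⟨fun _ => 1, CharCore.isIrrCharacter_one⟩
    rw [show (fun x : N => (ψ : G → ℂ) x) = ((ψ : G → ℂ) 1) • (one : N → ℂ) from funext fun x => by
      rw [hψ x]; simp [one], CharCore.classInner_smul_left,
      CharCore.classInner_irr_of_ne fun h => hθ (congrArg Subtype.val h).symm, mul_zero]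
  have hβtriv : ∀ x : N, (β : G → ℂ) x = (β : G → ℂ) 1 := fun x => by simpa using hβN x 1
  by_cases hχp : p ∣ Cfsg.charDegree (χ : G → ℂ)
  · exact hχ (hone χ β hχp hβp ▸ hres β hβtriv)
  · have hirr := restrict_irr N hidx hχp
    let γ : Cfsg.IrrCharacter G :=
      ⟨_, Ext.isIrrCharacter_mul χ.2 hirr β.2 hβN⟩
    have hγd : Cfsg.charDegree (γ : G → ℂ) =
        Cfsg.charDegree (β : G → ℂ) * Cfsg.charDegree (χ : G → ℂ) :=
      Deg.degree_of_eq (by
        show (β : G → ℂ) 1 * (χ : G → ℂ) 1 = _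
        rw [Deg.apply_one β, Deg.apply_one χ, Nat.cast_mul])
    have heq := hone γ β (hγd ▸ dvd_mul_of_dvd_left hβp _) hβp
    refine hχ (hres χ fun x => ?_)
    have h1 := congrFun (congrArg Subtype.val heq) (x : G)
    have h2 := congrFun (congrArg Subtype.val heq) (1 : G)
    change (β : G → ℂ) (x : G) * (χ : G → ℂ) (x : G) = (β : G → ℂ) (x : G) at h1
    change (β : G → ℂ) 1 * (χ : G → ℂ) 1 = (β : G → ℂ) 1 at h2
    rw [hβtriv x] at h1
    exact mul_left_cancel₀ (CharCore.irr_apply_one_ne_zero β) (h1.trans h2.symm)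

include hcop hidx in
/-- Characters over invariant characters of `N` have degree prime to `p`. -/
theorem not_dvd_of_inv (hab : ∀ a b : G ⧸ N, a * b = b * a) {θ : Cfsg.IrrCharacter N}
    (hinv : Ext.Inv N (θ : N → ℂ)) {χ : Cfsg.IrrCharacter G}
    (hne : Cfsg.classInner (fun x : N => (χ : G → ℂ) x) (θ : N → ℂ) ≠ 0) :
    ¬ p ∣ Cfsg.charDegree (χ : G → ℂ) := by
  classical
  have hp : p.Prime := Fact.out
  have hdθ : ¬ p ∣ Cfsg.charDegree (θ : N → ℂ) := fun h => by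
    have h1 := Deg.degree_dvd_index θ ⊥ (by simp)
    rw [Subgroup.index_bot] at h1
    exact (hp.coprime_iff_not_dvd.mp hcop.symm) (h.trans h1)
  have hcop' : Nat.Coprime N.index
      (Cfsg.detOrder (θ : N → ℂ) * Cfsg.charDegree (θ : N → ℂ)) := by
    rw [hidx]
    refine Nat.Coprime.pow_left k (Nat.Coprime.mul_right ?_ (hp.coprime_iff_not_dvd.mpr hdθ))
    refine hcop.symm.coprime_dvd_right ?_
    rw [Ext.detOrder_eq]
    exact orderOf_dvd_of_pow_eq_one (MonoidHom.ext fun x => by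
      rw [MonoidHom.pow_apply, ← map_pow, pow_card_eq_one', map_one]; rfl)
  obtain ⟨χ₀, ⟨hχ₀, hres, -⟩, -⟩ := Ext.exists_ext_detOrder N θ.2 hinv (Deg.apply_one θ) hcop'
  have hfun : (fun x : N => χ₀ x) = (θ : N → ℂ) := funext hres
  obtain ⟨β, hβ, hβN, hprod, -⟩ := Ext.exists_gallagher hχ₀ (hfun ▸ θ.2) χ.2 (hfun ▸ hne)
  obtain ⟨γ, hγc, hγi, hγ⟩ := CharCore.IsCharacter.exists_quotient
    (CharCore.IsIrrCharacter.isCharacter hβ) N fun x hx => by simpa using hβN ⟨x, hx⟩ 1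
  haveI := Fintype.ofFinite (G ⧸ N)
  have h1 := Deg.degree_dvd_index (⟨γ, hγi hβ⟩ : Cfsg.IrrCharacter (G ⧸ N)) ⊤
    fun a _ b _ => hab a b
  rw [Subgroup.index_top, Nat.dvd_one] at h1
  intro hdvd
  apply hdθ
  have h2 : Cfsg.charDegree (χ : G → ℂ) = Cfsg.charDegree (θ : N → ℂ) := by
    refine Deg.degree_of_eq ?_
    have h3 : γ 1 = 1 := by
      rw [show γ 1 = (((⟨γ, hγi hβ⟩ : Cfsg.IrrCharacter (G ⧸ N)) : G ⧸ N → ℂ)) 1 from rfl,
        Deg.apply_one, h1, Nat.cast_one]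
    rw [hprod, Pi.mul_apply, hγ 1, map_one, h3, one_mul, ← OneMemClass.coe_one N, hres,
      Deg.apply_one θ]
  rwa [h2] at hdvd

end Cfsg.Agent.CharDeep.OnePDeg
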