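import Cfsg.Agent.CharDeep.OnePDeg.Chars
import Cfsg.Agent.CharDeep.Small.Induction
import Cfsg.Agent.Lib.CharCore.GlaubermanSolvable
import Cfsg.Agent.Lib.BlocksCore.PPart
import Cfsg.Agent.Lib.CharCore.Burnside

/-!
# One irreducible character of degree divisible by `p`, normal `p`-complement: class side
-/

namespace Cfsg.Agent.CharDeep.OnePDeg

universe u

open CharCore

variable {G : Type u} [Group G] [Fintype G] {p : ℕ} [Fact p.Prime]

theorem card_classes (N : Subgroup G) [N.Normal] [Fintype N] (hcop : (Nat.card N).Coprime p)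
    {k : ℕ} (hidx : N.index = p ^ k) (hne : N ≠ ⊥)
    (hone : ∀ χ ψ : Cfsg.IrrCharacter G, p ∣ Cfsg.charDegree (χ : G → ℂ) →
      p ∣ Cfsg.charDegree (ψ : G → ℂ) → χ = ψ)
    (α : Cfsg.IrrCharacter G) (hα : p ∣ Cfsg.charDegree (α : G → ℂ)) :
    Nat.card {C : ConjClasses G // p ∣ Nat.card C.carrier} = 1 := by
  classical
  have hp : p.Prime := Fact.out
  have hpN : ¬ p ∣ Nat.card N := hp.coprime_iff_not_dvd.mp hcop.symm
  obtain ⟨P⟩ := (inferInstance : Nonempty (Sylow p G))
  -- `G` is the semidirect product of `N` and `P`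
  have hcardP : Nat.card P = p ^ k := by
    rw [P.card_eq_multiplicity, ← N.index_mul_card, hidx,
      Nat.factorization_mul (pow_ne_zero k hp.ne_zero) Nat.card_pos.ne', Finsupp.add_apply,
      Nat.Prime.factorization_pow hp, Finsupp.single_eq_same,
      Nat.factorization_eq_zero_of_not_dvd hpN, add_zero]
  have hinf : ∀ x : G, x ∈ N → x ∈ (P : Subgroup G) → x = 1 := fun x h1 h2 => by
    refine Subgroup.mem_bot.mp ?_
    rw [← Subgroup.inf_eq_bot_of_coprime (H := N) (K := (P : Subgroup G))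
      (by rw [hcardP]; exact hcop.pow_right k)]
    exact Subgroup.mem_inf.mpr ⟨h1, h2⟩
  have hdec : ∀ g : G, ∃ n ∈ N, ∃ a ∈ (P : Subgroup G), g = n * a := by
    have hinj : Function.Injective fun a : P => QuotientGroup.mk' N (a : G) := fun a b h => by
      have h1 : ((a⁻¹ * b : P) : G) ∈ N := by
        push_cast
        exact QuotientGroup.eq.mp h
      exact inv_mul_eq_one.mp (Subtype.ext (hinf _ h1 (a⁻¹ * b).2))
    have hbij := (Nat.bijective_iff_injective_and_card _).mpr ⟨hinj,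
      hcardP.trans (hidx.symm.trans (Subgroup.index_eq_card N))⟩
    intro g
    obtain ⟨a, ha⟩ := hbij.2 (QuotientGroup.mk' N g)
    refine ⟨g * (a : G)⁻¹, ?_, a, a.2, by group⟩
    rw [← QuotientGroup.eq_one_iff, ← QuotientGroup.mk'_apply, map_mul, map_inv]
    simp only at ha
    rw [ha, mul_inv_cancel]
  have habQ := quotient_commute N hidx hone hne
  have habP : ∀ a b : P, a * b = b * a := fun a b => by
    refine mul_inv_eq_one.mp (Subtype.ext (hinf _ ?_ (a * b * (b * a)⁻¹).2))
    push_cast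
    rw [← QuotientGroup.eq_one_iff, ← QuotientGroup.mk'_apply, map_mul, map_mul, map_inv, map_mul,
      habQ (QuotientGroup.mk' N (b : G)) (QuotientGroup.mk' N (a : G)), mul_inv_cancel]
  haveI : Group.IsSolvable P := Group.isSolvable_of_comm habP
  let φ : P →* MulAut N := (MulAut.conjNormal).comp (P : Subgroup G).subtype
  have hφ : ∀ (a : P) (n : N), ((φ a n : N) : G) = a * n * (a : G)⁻¹ := fun a n =>
    MulAut.conjNormal_apply _ _
  -- invariance in `G` is invariance under `P`
  have hInv : ∀ θ : Cfsg.IrrCharacter N, IsInvFun φ (θ : N → ℂ) → Ext.Inv N (θ : N → ℂ) := by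
    intro θ h g n
    obtain ⟨m, hm, a, ha, rfl⟩ := hdec g
    refine Eq.trans ?_ (h ⟨a, ha⟩ n)
    refine Eq.trans ?_ (irr_isClassFunction θ (φ ⟨a, ha⟩ n) ⟨m, hm⟩)
    refine congrArg (θ : N → ℂ) (Subtype.ext ?_)
    push_cast
    rw [hφ]
    group
  have hover : ∀ θ : Cfsg.IrrCharacter N, ¬ IsInvFun φ (θ : N → ℂ) →
      Cfsg.classInner (fun x : N => (α : G → ℂ) x) (θ : N → ℂ) ≠ 0 := by
    intro θ hθ
    obtain ⟨χ, hχ⟩ := CharCore.exists_over N θ
    by_cases hχp : p ∣ Cfsg.charDegree (χ : G → ℂ)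
    · exact hone α χ hα hχp ▸ hχ
    · refine absurd (fun a n => ?_) hθ
      have hres := restrict_irr N hidx hχp
      have heq : (⟨_, hres⟩ : Cfsg.IrrCharacter N) = θ := by
        by_contra hne'
        exact hχ (CharCore.classInner_irr_of_ne hne')
      rw [← heq]
      show (χ : G → ℂ) ((φ a n : N) : G) = (χ : G → ℂ) (n : G)
      rw [hφ]
      exact irr_isClassFunction χ (n : G) a
  -- the moved characters form one orbit
  have horbit : ∀ θ θ' : Cfsg.IrrCharacter N, ¬ IsInvFun φ (θ : N → ℂ) →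
      ¬ IsInvFun φ (θ' : N → ℂ) → ∃ a : P, ∀ n, (θ' : N → ℂ) n = (θ : N → ℂ) (φ a n) := by
    intro θ θ' h h'
    obtain ⟨g, hg⟩ := CharClifford.exists_conjFun_eq_of_constituents N α.2 θ.2 θ'.2
      (hover θ h) (hover θ' h')
    obtain ⟨m, hm, a, ha, rfl⟩ := hdec g
    refine ⟨⟨a, ha⟩, fun n => ?_⟩
    rw [hg, CharClifford.conjFun_apply]
    refine Eq.trans ?_ (irr_isClassFunction θ (φ ⟨a, ha⟩ n) ⟨m, hm⟩)
    refine congrArg (θ : N → ℂ) (Subtype.ext ?_)
    push_cast
    rw [hφ]
    group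
  obtain ⟨θ₁, hθ₁⟩ : ∃ θ : Cfsg.IrrCharacter N, ¬ IsInvFun φ (θ : N → ℂ) := by
    obtain ⟨θ, hθ⟩ := CharClifford.exists_constituent
      (isCharacter_restrict (irr_isCharacter α) N) (irr_apply_one_ne_zero α)
    exact ⟨θ, fun h => not_dvd_of_inv N hcop hidx habQ (hInv θ h) hθ hα⟩
  have hfixed : ∀ (B : Subgroup P) (n : N), (∀ b : B, IsConj n (φ b n)) →
      ∃ c : N, (∀ b : B, φ b c = c) ∧ IsConj n c := by
    intro B n hn
    obtain ⟨c, hc⟩ := CharCore.exists_fixed_isConj (p := p) (φ := φ.comp B.subtype)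
      (ι := (fixedSubgroup (φ.comp B.subtype)).subtype) (mem_range_subtype_fixed _)
      (P.2.to_subgroup B) hpN (g := n) hn
    exact ⟨c, c.2, hc⟩
  -- a nontrivial element of `P` fixes only invariant characters
  have hfree : ∀ x : P, x ≠ 1 → ∀ θ : Cfsg.IrrCharacter N,
      IsInvFun (φ.comp (Subgroup.zpowers x).subtype) (θ : N → ℂ) → IsInvFun φ (θ : N → ℂ) := by
    intro x hx θ hθx
    by_contra hθ
    have hall : ∀ (θ' : Cfsg.IrrCharacter N) (b : Subgroup.zpowers x) n,
        (θ' : N → ℂ) (φ b n) = (θ' : N → ℂ) n := by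
      intro θ' b n
      by_cases h' : IsInvFun φ (θ' : N → ℂ)
      · exact h' b n
      · obtain ⟨a, ha⟩ := horbit θ θ' hθ h'
        rw [ha, ha, ← MulAut.mul_apply, ← map_mul, habP, map_mul, MulAut.mul_apply]
        exact hθx b (φ a n)
    have hmeet : ∀ n : N, ∃ m : N, m⁻¹ * n * m ∈
        fixedSubgroup (φ.comp (Subgroup.zpowers x).subtype) := by
      intro n
      obtain ⟨c, hc, hnc⟩ := hfixed (Subgroup.zpowers x) n fun b =>
        (isConj_iff_forall_irr n _).mpr fun θ' => (hall θ' b n).symm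
      obtain ⟨m, hm⟩ := isConj_iff.mp hnc
      exact ⟨m⁻¹, by rw [inv_inv, hm]; exact hc⟩
    have htop := Small.eq_top_of_meets_classes _ hmeet
    have hcent : (x : G) ∈ Subgroup.center G := by
      refine Subgroup.mem_center_iff.mpr fun g => ?_
      obtain ⟨m, hm, a, ha, rfl⟩ := hdec g
      have h1 : φ x ⟨m, hm⟩ = ⟨m, hm⟩ :=
        (htop ▸ Subgroup.mem_top (⟨m, hm⟩ : N) :
          (⟨m, hm⟩ : N) ∈ fixedSubgroup (φ.comp (Subgroup.zpowers x).subtype))
          ⟨x, Subgroup.mem_zpowers x⟩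
      have h2 : (x : G) * m * (x : G)⁻¹ = m := (hφ x ⟨m, hm⟩).symm.trans (congrArg Subtype.val h1)
      have h3 : (x : G) * a = a * x := congrArg Subtype.val (habP x ⟨a, ha⟩)
      calc m * a * x = m * (x * a) := by rw [h3, mul_assoc]
        _ = (x * m * (x : G)⁻¹) * (x * a) := by rw [h2]
        _ = x * (m * a) := by group
    obtain ⟨c, hc, hcy⟩ := Deg.exists_central_scalar α hcent
    haveI := Fintype.ofFinite (G ⧸ N)
    obtain ⟨β₀, hβ₀⟩ : ∃ β₀ : Cfsg.IrrCharacter (G ⧸ N),
        (β₀ : G ⧸ N → ℂ) (QuotientGroup.mk' N x) ≠ (β₀ : G ⧸ N → ℂ) 1 := by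
      by_contra hno
      push Not at hno
      have h1 := Ext.eq_one_of_forall_irr hno
      rw [QuotientGroup.mk'_apply, QuotientGroup.eq_one_iff] at h1
      exact hx (Subtype.ext (hinf _ h1 x.2))
    have hβd : (β₀ : G ⧸ N → ℂ) 1 = 1 := by
      have h1 := Deg.degree_dvd_index β₀ ⊤ fun a _ b _ => habQ a b
      rw [Subgroup.index_top, Nat.dvd_one] at h1
      rw [Deg.apply_one β₀, h1, Nat.cast_one]
    obtain ⟨f, hf⟩ := IsCharacter.exists_hom_of_degree_one (irr_isCharacter β₀) hβd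
    let γ : Cfsg.IrrCharacter G :=
      ⟨fun g => (f.comp (QuotientGroup.mk' N) g : ℂ) * (α : G → ℂ) g,
        isIrrCharacter_hom_mul (f.comp (QuotientGroup.mk' N)) α.2⟩
    have hγd : Cfsg.charDegree (γ : G → ℂ) = Cfsg.charDegree (α : G → ℂ) :=
      Deg.degree_of_eq (by
        show (f.comp (QuotientGroup.mk' N) 1 : ℂ) * (α : G → ℂ) 1 = _
        rw [map_one, Units.val_one, one_mul, Deg.apply_one α])
    have heq := congrFun (congrArg Subtype.val (hone γ α (hγd ▸ hα) hα)) (x : G)
    change (f (QuotientGroup.mk' N x) : ℂ) * (α : G → ℂ) x = (α : G → ℂ) x at heq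
    have hx0 : (α : G → ℂ) x ≠ 0 := by
      have h1 := hcy 1
      rw [mul_one] at h1
      rw [h1]
      exact mul_ne_zero (fun h0 => by rw [h0, zero_mul] at hc; exact zero_ne_one hc)
        (irr_apply_one_ne_zero α)
    rw [hf] at hβ₀
    simp only [map_one, Units.val_one] at hβ₀
    exact hβ₀ (mul_right_cancel₀ hx0 (heq.trans (one_mul _).symm))
  -- counting fixed classes
  have hfixcls : ∀ x : P, x ≠ 1 → ∀ K : ConjClasses N,
      IsInvClass (φ.comp (Subgroup.zpowers x).subtype) K → IsInvClass φ K := by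
    intro x hx K hK
    have hcopP : (Nat.card N).Coprime (Nat.card P) := hcardP ▸ hcop.pow_right k
    haveI : Group.IsSolvable (Subgroup.zpowers x) :=
      Group.isSolvable_of_comm fun a b => Subtype.ext (habP a b)
    have e1 := card_inv_irr_eq_card_inv_class _ P N φ rfl hcopP
    have e2 := card_inv_irr_eq_card_inv_class _ (Subgroup.zpowers x) N
      (φ.comp (Subgroup.zpowers x).subtype) rfl
      (hcopP.coprime_dvd_right (Subgroup.card_subgroup_dvd_card _))
    have e3 : Nat.card {χ : Cfsg.IrrCharacter N //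
        IsInvFun (φ.comp (Subgroup.zpowers x).subtype) (χ : N → ℂ)} =
        Nat.card {χ : Cfsg.IrrCharacter N // IsInvFun φ (χ : N → ℂ)} :=
      Nat.card_congr (Equiv.subtypeEquivRight fun θ => ⟨hfree x hx θ, fun h b n => h b n⟩)
    have hsub : {K : ConjClasses N | IsInvClass φ K} ⊆
        {K : ConjClasses N | IsInvClass (φ.comp (Subgroup.zpowers x).subtype) K} :=
      fun K h b n hn => h b n hn
    have h := Set.eq_of_subset_of_ncard_le hsub (le_of_eq (by
      rw [← Nat.card_coe_set_eq, ← Nat.card_coe_set_eq]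
      exact (e2.symm.trans (e3.trans e1))))
    exact (h.symm ▸ hK : K ∈ {K : ConjClasses N | IsInvClass φ K})
  have hfixmk : ∀ n : N, IsInvClass φ (ConjClasses.mk n) ↔ ∀ a : P, IsConj n (φ a n) := by
    intro n
    refine ⟨fun h a => (ConjClasses.mk_eq_mk_iff_isConj.mp (h a n rfl)).symm, fun h a g hg => ?_⟩
    rw [ConjClasses.mk_eq_mk_iff_isConj] at hg ⊢
    exact ((φ a).toMonoidHom.map_isConj hg).trans (h a).symm
  have hcarr : ∀ g : G, Nat.card (ConjClasses.mk g).carrier =
      (Subgroup.centralizer ({g} : Set G)).index := fun g => by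
    rw [← card_class_eq_index g, ← Nat.card_eq_finsetCard]
    exact Nat.card_congr (Equiv.subtypeEquivRight fun y => by
      simp [ConjClasses.mem_carrier_iff_mk_eq])
  have hgood : ∀ (g : G), (∀ a : P, (a : G) * g = g * a) →
      ¬ p ∣ Nat.card (ConjClasses.mk g).carrier := fun g hg h =>
    P.not_dvd_index ((hcarr g ▸ h).trans (Subgroup.index_dvd_of_le fun a ha =>
      Subgroup.mem_centralizer_singleton_iff.mpr (hg ⟨a, ha⟩)))
  have hPtop : ∀ n : N, (∀ a : P, IsConj n (φ a n)) →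
      ¬ p ∣ Nat.card (ConjClasses.mk (n : G)).carrier := by
    intro n hn
    obtain ⟨c, hc, hnc⟩ := hfixed ⊤ n fun b => hn b
    have hG : IsConj (n : G) (c : G) := N.subtype.map_isConj hnc
    rw [ConjClasses.mk_eq_mk_iff_isConj.mpr hG]
    refine hgood _ fun a => ?_
    have h1 := congrArg Subtype.val (hc ⟨a, Subgroup.mem_top a⟩)
    exact mul_inv_eq_iff_eq_mul.mp ((hφ a c).symm.trans h1)
  -- classes of size divisible by `p` lie in `N` and are moved
  have hmoved : ∀ g : G, p ∣ Nat.card (ConjClasses.mk g).carrier →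
      ∃ n : N, ConjClasses.mk g = ConjClasses.mk (n : G) ∧ ¬ ∀ a : P, IsConj n (φ a n) := by
    intro g hg
    obtain ⟨x, y, hxy, hcomm, ⟨j, hj⟩, hy, -, -⟩ := BlocksCore.exists_isPPart hp g
    have hyN : y ∈ N := by
      rw [← QuotientGroup.eq_one_iff, ← QuotientGroup.mk'_apply]
      refine orderOf_eq_one_iff.mp ?_
      have h1 : orderOf (QuotientGroup.mk' N y) ∣ orderOf y := orderOf_map_dvd _ y
      have h2 : orderOf (QuotientGroup.mk' N y) ∣ p ^ k := by
        rw [← hidx, Subgroup.index_eq_card]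
        exact orderOf_dvd_natCard _
      obtain ⟨i, -, hi⟩ := (Nat.dvd_prime_pow hp).mp h2
      rcases Nat.eq_zero_or_pos i with rfl | hi0
      · simpa using hi
      · exact absurd ((hi ▸ dvd_pow_self p hi0.ne').trans h1) hy
    obtain ⟨S, hS⟩ := (IsPGroup.of_card (n := j) (by rw [Nat.card_zpowers, hj]) :
      IsPGroup p (Subgroup.zpowers x)).exists_le_sylow
    obtain ⟨h, hh⟩ := MulAction.exists_smul_eq G S P
    have hxP : h * x * h⁻¹ ∈ (P : Subgroup G) := by
      rw [← hh]
      exact ⟨x, hS (Subgroup.mem_zpowers x), rfl⟩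
    have hgc : ConjClasses.mk g = ConjClasses.mk (h * g * h⁻¹) :=
      ConjClasses.mk_eq_mk_iff_isConj.mpr (isConj_iff.mpr ⟨h, rfl⟩)
    let x' : P := ⟨h * x * h⁻¹, hxP⟩
    let u : N := ⟨h * y * h⁻¹, (inferInstance : N.Normal).conj_mem y hyN h⟩
    have hu : h * g * h⁻¹ = (x' : G) * u := by rw [← hxy]; show _ = h * x * h⁻¹ * (h * y * h⁻¹); group
    have hux : φ x' u = u := Subtype.ext (by
      rw [hφ, mul_inv_eq_iff_eq_mul]
      show h * x * h⁻¹ * (h * y * h⁻¹) = h * y * h⁻¹ * (h * x * h⁻¹)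
      calc h * x * h⁻¹ * (h * y * h⁻¹) = h * (x * y) * h⁻¹ := by group
        _ = h * (y * x) * h⁻¹ := by rw [hcomm.eq]
        _ = _ := by group)
    by_cases hx1 : x' = 1
    · refine ⟨u, ?_, fun hall => ?_⟩
      · rw [hgc, hu, hx1, OneMemClass.coe_one, one_mul]
      · rw [hgc, hu, hx1, OneMemClass.coe_one, one_mul] at hg
        exact hPtop u hall hg
    · exfalso
      set B := Subgroup.zpowers x'
      have hufix : ∀ b : B, φ b u = u := by
        rintro ⟨b, hb⟩
        obtain ⟨i, rfl⟩ := Subgroup.mem_zpowers_iff.mp hb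
        let S : Subgroup P :=
          { carrier := {b | φ b u = u}
            one_mem' := by simp
            mul_mem' := fun {a b} ha hb => by
              show φ (a * b) u = u
              rw [map_mul, MulAut.mul_apply, show φ b u = u from hb, show φ a u = u from ha]
            inv_mem' := fun {a} ha => by
              show φ a⁻¹ u = u
              conv_lhs => rw [← show φ a u = u from ha]
              rw [← MulAut.mul_apply, ← map_mul, inv_mul_cancel, map_one, MulAut.one_apply] }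
        exact S.zpow_mem (show x' ∈ S from hux) i
      have hinv : IsInvClass (φ.comp B.subtype) (ConjClasses.mk u) := fun b g' hg' => by
        rw [ConjClasses.mk_eq_mk_iff_isConj] at hg' ⊢
        have h1 := ((φ.comp B.subtype) b).toMonoidHom.map_isConj hg'
        change IsConj _ (φ b u) at h1
        rwa [hufix b] at h1
      obtain ⟨c, hc, huc⟩ := hfixed ⊤ u fun b => (hfixmk u).mp (hfixcls x' hx1 _ hinv) b
      have hcfix : ∀ a : P, φ a c = c := fun a => hc ⟨a, Subgroup.mem_top a⟩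
      obtain ⟨z, hz⟩ := isConj_iff.mp (CharCore.isConj_of_isConj_map (p := p)
        (φ := φ.comp B.subtype) (ι := (fixedSubgroup (φ.comp B.subtype)).subtype)
        (Subgroup.subtype_injective _) (mem_range_subtype_fixed _) (P.2.to_subgroup B) hpN
        (c := ⟨u, hufix⟩) (d := ⟨c, fun b => hcfix b⟩) huc)
      have hz1 : (x' : G) * ((z : N) : G) * (x' : G)⁻¹ = ((z : N) : G) :=
        (hφ x' (z : N)).symm.trans (congrArg Subtype.val (z.2 ⟨x', Subgroup.mem_zpowers x'⟩))
      have hz2 : ((z : N) : G) * (u : G) * ((z : N) : G)⁻¹ = (c : G) :=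
        congrArg (fun w : fixedSubgroup (φ.comp B.subtype) => ((w : N) : G)) hz
      have hfin : IsConj (h * g * h⁻¹) ((x' : G) * c) := isConj_iff.mpr ⟨((z : N) : G), by
        rw [hu, ← hz2]
        calc ((z : N) : G) * ((x' : G) * u) * ((z : N) : G)⁻¹
            = ((z : N) : G) * x' * u * ((z : N) : G)⁻¹ := by group
          _ = (x' : G) * ((z : N) : G) * u * ((z : N) : G)⁻¹ := by
              rw [mul_inv_eq_iff_eq_mul.mp hz1]
          _ = _ := by group⟩
      rw [hgc, ConjClasses.mk_eq_mk_iff_isConj.mpr hfin] at hg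
      refine hgood _ (fun a => ?_) hg
      rw [← mul_assoc, show (a : G) * x' = x' * a from congrArg Subtype.val (habP a x'), mul_assoc,
        mul_inv_eq_iff_eq_mul.mp ((hφ a c).symm.trans (congrArg Subtype.val (hcfix a))), ← mul_assoc]
  -- the moved classes are one orbit
  let MI := {θ : Cfsg.IrrCharacter N // ¬ IsInvFun φ (θ : N → ℂ)}
  let MC := {K : ConjClasses N // ¬ IsInvClass φ K}
  have hMI : Nat.card MI ≤ Nat.card P := by
    choose a ha using fun θ : MI => horbit θ₁ θ.1 hθ₁ θ.2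
    refine Nat.card_le_card_of_injective a fun θ θ' h => Subtype.ext (Subtype.ext (funext fun n => ?_))
    rw [ha θ, ha θ', h]
  have hMC : Nat.card MC = Nat.card MI := by
    have h1 := card_inv_irr_eq_card_inv_class _ P N φ rfl (hcardP ▸ hcop.pow_right k)
    have h2 : Fintype.card {θ : Cfsg.IrrCharacter N // IsInvFun φ (θ : N → ℂ)} =
        Fintype.card {K : ConjClasses N // IsInvClass φ K} := by
      rw [← Nat.card_eq_fintype_card, ← Nat.card_eq_fintype_card, h1]
    show Nat.card {K : ConjClasses N // ¬ IsInvClass φ K} =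
      Nat.card {θ : Cfsg.IrrCharacter N // ¬ IsInvFun φ (θ : N → ℂ)}
    rw [Nat.card_eq_fintype_card, Nat.card_eq_fintype_card, Fintype.card_subtype_compl,
      Fintype.card_subtype_compl, h2, ← Nat.card_eq_fintype_card, ← Nat.card_eq_fintype_card
      (α := Cfsg.IrrCharacter N), CharCore.card_irr]
  have hmap : ∀ (n : N), ¬ (∀ a : P, IsConj n (φ a n)) → ∀ a : P,
      ¬ IsInvClass φ (ConjClasses.mk (φ a n)) := by
    intro n hn a h
    refine hn fun b => ?_
    have h1 := (hfixmk _).mp h b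
    have h2 := (φ a⁻¹).toMonoidHom.map_isConj h1
    change IsConj (φ a⁻¹ (φ a n)) (φ a⁻¹ (φ b (φ a n))) at h2
    rwa [← MulAut.mul_apply, ← map_mul, inv_mul_cancel, map_one, MulAut.one_apply,
      ← MulAut.mul_apply, ← MulAut.mul_apply, ← map_mul, ← map_mul,
      show a⁻¹ * b * a = b by rw [mul_assoc, habP b a, ← mul_assoc, inv_mul_cancel, one_mul]] at h2
  have horbC : ∀ n n' : N, ¬ (∀ a : P, IsConj n (φ a n)) → ¬ (∀ a : P, IsConj n' (φ a n')) →
      ∃ a : P, IsConj (φ a n) n' := by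
    intro n n' hn hn'
    let F : P → MC := fun a => ⟨ConjClasses.mk (φ a n), hmap n hn a⟩
    have hFinj : Function.Injective F := by
      intro a b hab
      by_contra hne'
      have h1 : IsConj (φ a n) (φ b n) :=
        ConjClasses.mk_eq_mk_iff_isConj.mp (congrArg Subtype.val hab)
      have h2 := (φ a⁻¹).toMonoidHom.map_isConj h1
      change IsConj (φ a⁻¹ (φ a n)) (φ a⁻¹ (φ b n)) at h2
      rw [← MulAut.mul_apply, ← map_mul, inv_mul_cancel, map_one, MulAut.one_apply,
        ← MulAut.mul_apply, ← map_mul] at h2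
      refine hn ((hfixmk n).mp (hfixcls (a⁻¹ * b) (fun h => hne' (inv_mul_eq_one.mp h)) _ ?_))
      intro c g' hg'
      rw [ConjClasses.mk_eq_mk_iff_isConj] at hg' ⊢
      refine (((φ.comp (Subgroup.zpowers (a⁻¹ * b)).subtype) c).toMonoidHom.map_isConj hg').trans ?_
      obtain ⟨c, hc⟩ := c
      let S : Subgroup P :=
        { carrier := {t | IsConj n (φ t n)}
          one_mem' := by
            show IsConj n (φ 1 n)
            rw [map_one]
            exact IsConj.refl _
          mul_mem' := fun {s t} hs ht => by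
            show IsConj n (φ (s * t) n)
            rw [map_mul, MulAut.mul_apply]
            exact IsConj.trans hs ((φ s).toMonoidHom.map_isConj ht)
          inv_mem' := fun {s} hs => by
            show IsConj n (φ s⁻¹ n)
            have h3 := (φ s⁻¹).toMonoidHom.map_isConj (show IsConj n (φ s n) from hs)
            change IsConj (φ s⁻¹ n) (φ s⁻¹ (φ s n)) at h3
            rw [← MulAut.mul_apply, ← map_mul, inv_mul_cancel, map_one, MulAut.one_apply] at h3
            exact h3.symm }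
      exact ((Subgroup.zpowers_le.mpr (show a⁻¹ * b ∈ S from h2)) hc : IsConj n (φ c n)).symm
    have hFsurj : Function.Surjective F := by
      refine (hFinj.bijective_of_nat_card_le ?_).2
      rw [hMC]
      exact hMI
    obtain ⟨a, ha⟩ := hFsurj ⟨ConjClasses.mk n', fun h => hn' ((hfixmk n').mp h)⟩
    exact ⟨a, ConjClasses.mk_eq_mk_iff_isConj.mp (congrArg Subtype.val ha)⟩
  refine Nat.card_eq_one_iff_unique.mpr ⟨⟨?_⟩, ?_⟩
  · rintro ⟨C, hC⟩ ⟨D, hD⟩
    obtain ⟨g, rfl⟩ := ConjClasses.exists_rep C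
    obtain ⟨g', rfl⟩ := ConjClasses.exists_rep D
    obtain ⟨n, hgn, hn⟩ := hmoved g hC
    obtain ⟨n', hgn', hn'⟩ := hmoved g' hD
    obtain ⟨a, ha⟩ := horbC n n' hn hn'
    refine Subtype.ext ?_
    show ConjClasses.mk g = ConjClasses.mk g'
    rw [hgn, hgn', ConjClasses.mk_eq_mk_iff_isConj]
    refine IsConj.trans ?_ (N.subtype.map_isConj ha)
    exact isConj_iff.mpr ⟨a, (hφ a n).symm⟩
  · obtain ⟨⟨K, hK⟩⟩ : Nonempty MC := by
      refine (Nat.card_ne_zero.mp ?_).1
      rw [hMC]
      haveI : Nonempty MI := ⟨⟨θ₁, hθ₁⟩⟩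
      exact (Nat.card_pos (α := MI)).ne'
    obtain ⟨n, rfl⟩ := ConjClasses.exists_rep K
    refine ⟨⟨ConjClasses.mk (n : G), ?_⟩⟩
    by_contra hnd
    refine hK ((hfixmk n).mpr fun a => ?_)
    rw [hcarr] at hnd
    set C := Subgroup.centralizer ({(n : G)} : Set G)
    obtain ⟨R⟩ := (inferInstance : Nonempty (Sylow p C))
    let S : Sylow p G := (R.2.map C.subtype).toSylow (by
      rw [Subgroup.index_map_subtype]
      exact fun h => (hp.dvd_mul.mp h).elim R.not_dvd_index hnd)
    obtain ⟨h, hh⟩ := MulAction.exists_smul_eq G P S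
    obtain ⟨m, hm, b, hb, rfl⟩ := hdec h
    have h1 : m * b * ((b⁻¹ * (a : G) * b)) * (m * b)⁻¹ ∈ (S : Subgroup G) := by
      rw [← hh]
      exact ⟨b⁻¹ * (a : G) * b, (P : Subgroup G).mul_mem ((P : Subgroup G).mul_mem (inv_mem hb) a.2) hb,
        rfl⟩
    obtain ⟨c, -, hc⟩ := (h1 : _ ∈ (R : Subgroup C).map C.subtype)
    have h2 := Subgroup.mem_centralizer_singleton_iff.mp c.2
    have hc' : (c : G) = m * a * m⁻¹ := hc.trans (by group)
    rw [hc'] at h2
    let mm : N := ⟨m, hm⟩
    refine isConj_iff.mpr ⟨φ a mm * mm⁻¹, Subtype.ext ?_⟩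
    push_cast
    rw [hφ, hφ]
    calc (a : G) * m * (a : G)⁻¹ * m⁻¹ * n * ((a : G) * m * (a : G)⁻¹ * m⁻¹)⁻¹
        = (a : G) * m * (a : G)⁻¹ * m⁻¹ * ((n : G) * (m * a * m⁻¹)) * (a : G)⁻¹ := by group
      _ = (a : G) * m * (a : G)⁻¹ * m⁻¹ * ((m * a * m⁻¹) * (n : G)) * (a : G)⁻¹ := by rw [h2]
      _ = (a : G) * n * (a : G)⁻¹ := by group

end Cfsg.Agent.CharDeep.OnePDeg
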